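import Mathlib
import Cfsg.Agent.Lib.Helper50.FOT.Defs

/-!
# Project FOT (S3999), package [HALLN]

Unique Sylow subgroups for the primes of `n` give a normal subgroup of order `n`.
-/

set_option autoImplicit false
open scoped Pointwise

namespace Cfsg.Agent.Lib.Helper72.FOT

open Cfsg.Agent.Lib.Helper50.FOT

universe u

variable {G : Type u} [Group G] [Finite G]

omit [Finite G] in
theorem card_sup_dvd72 (H K : Subgroup G) [K.Normal] :
    Nat.card (H ⊔ K : Subgroup G) ∣ Nat.card H * Nat.card K := by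
  have h1 : Nat.card K * K.relIndex (H ⊔ K) = Nat.card (H ⊔ K : Subgroup G) := by
    have := Subgroup.relIndex_mul_relIndex ⊥ K (H ⊔ K) bot_le le_sup_right
    rwa [Subgroup.relIndex_bot_left, Subgroup.relIndex_bot_left] at this
  rw [← h1, Subgroup.relIndex_sup_right]
  calc Nat.card K * K.relIndex H = K.relIndex H * Nat.card K := mul_comm _ _
    _ ∣ Nat.card H * Nat.card K := Nat.mul_dvd_mul_right (Subgroup.relIndex_dvd_card K H) _

theorem exists_normal_sylow72 (n h : ℕ) (hG : Nat.card G = n * h) (hcop : n.Coprime h)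
    (p : ℕ) (hp : p.Prime) (hpn : p ∣ n)
    (hcnt : Nat.card {g : G // orderOf g ∣ p ^ n.factorization p} = p ^ n.factorization p) :
    ∃ Q : Subgroup G, Q.Normal ∧ Nat.card Q = p ^ n.factorization p := by
  have : Fact p.Prime := ⟨hp⟩
  have hpos : 0 < Nat.card G := Nat.card_pos
  have hn0 : n ≠ 0 := by
    rintro rfl
    rw [zero_mul] at hG
    omega
  have hh0 : h ≠ 0 := by
    rintro rfl
    rw [mul_zero] at hG
    omega
  have hph : ¬ p ∣ h := by
    intro hph
    have h1 := Nat.dvd_gcd hpn hph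
    rw [hcop.gcd_eq_one] at h1
    exact hp.one_lt.ne' (Nat.dvd_one.mp h1)
  obtain ⟨P⟩ : Nonempty (Sylow p G) := inferInstance
  have hPc : Nat.card (P : Subgroup G) = p ^ n.factorization p := by
    rw [Sylow.card_eq_multiplicity, hG, Nat.factorization_mul hn0 hh0, Finsupp.add_apply,
      Nat.factorization_eq_zero_of_not_dvd hph, add_zero]
  have hsub : ((P : Subgroup G) : Set G) ⊆ {g : G | orderOf g ∣ p ^ n.factorization p} := by
    intro x hx
    have h1 : orderOf (⟨x, hx⟩ : (P : Subgroup G)) ∣ Nat.card (P : Subgroup G) :=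
      orderOf_dvd_natCard _
    rw [hPc, Subgroup.orderOf_mk] at h1
    exact h1
  have heq : ((P : Subgroup G) : Set G) = {g : G | orderOf g ∣ p ^ n.factorization p} := by
    apply Set.eq_of_subset_of_ncard_le hsub _ (Set.toFinite _)
    rw [← Nat.card_coe_set_eq, ← Nat.card_coe_set_eq]
    show Nat.card {g : G // orderOf g ∣ p ^ n.factorization p} ≤ Nat.card (P : Subgroup G)
    rw [hcnt, hPc]
  refine ⟨(P : Subgroup G), ⟨fun x hx g => ?_⟩, hPc⟩
  have hx' : x ∈ ((P : Subgroup G) : Set G) := hx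
  rw [heq] at hx'
  have hx'' : orderOf x ∣ p ^ n.factorization p := hx'
  have h2 : g * x * g⁻¹ ∈ ((P : Subgroup G) : Set G) := by
    rw [heq]
    show orderOf (g * x * g⁻¹) ∣ p ^ n.factorization p
    have h3 : orderOf (g * x * g⁻¹) = orderOf x := by
      simpa using (MulAut.conj g).orderOf_eq x
    rw [h3]
    exact hx''
  exact h2

theorem pkgHallN : PkgHallN.{u} := by
  intro G _ _ n h hG hcop hcnt
  have hpos : 0 < Nat.card G := Nat.card_pos
  have hn0 : n ≠ 0 := by
    rintro rfl
    rw [zero_mul] at hG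
    omega
  have hQ : ∀ p : ℕ, p.Prime → p ∣ n →
      ∃ Q : Subgroup G, Q.Normal ∧ Nat.card Q = p ^ n.factorization p :=
    fun p hp hpn => exists_normal_sylow72 n h hG hcop p hp hpn (hcnt p hp hpn)
  have key : ∀ S : Finset ℕ, S ⊆ n.primeFactors →
      ∃ N : Subgroup G, N.Normal ∧ Nat.card N ∣ ∏ p ∈ S, p ^ n.factorization p ∧
        ∀ p ∈ S, p ^ n.factorization p ∣ Nat.card N := by
    intro S
    induction S using Finset.induction_on with
    | empty =>
      intro _
      exact ⟨⊥, inferInstance, by simp, by simp⟩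
    | insert r S hrS ih =>
      intro hsub
      obtain ⟨N, hNn, hNd, hNp⟩ := ih (fun p hp => hsub (Finset.mem_insert_of_mem hp))
      have hr := Nat.mem_primeFactors.mp (hsub (Finset.mem_insert_self r S))
      obtain ⟨Q, hQn, hQc⟩ := hQ r hr.1 hr.2.1
      refine ⟨N ⊔ Q, inferInstance, ?_, ?_⟩
      · rw [Finset.prod_insert hrS, mul_comm]
        exact (card_sup_dvd72 N Q).trans (by rw [hQc]; exact Nat.mul_dvd_mul_right hNd _)
      · intro p hp
        rcases Finset.mem_insert.mp hp with rfl | hp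
        · rw [← hQc]
          exact Subgroup.card_dvd_of_le le_sup_right
        · exact (hNp p hp).trans (Subgroup.card_dvd_of_le le_sup_left)
  obtain ⟨N, hNn, hNd, hNp⟩ := key n.primeFactors (Finset.Subset.refl _)
  refine ⟨N, hNn, ?_⟩
  have hN0 : Nat.card N ≠ 0 := Nat.card_pos.ne'
  have h1 : Nat.card N ∣ n := by
    have h2 : ∏ p ∈ n.primeFactors, p ^ n.factorization p = n :=
      Nat.prod_factorization_pow_eq_self hn0
    rw [h2] at hNd
    exact hNd
  have h3 : n ∣ Nat.card N := by
    rw [← Nat.factorization_prime_le_iff_dvd hn0 hN0]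
    intro p hp
    by_cases hpn : p ∣ n
    · exact (hp.pow_dvd_iff_le_factorization hN0).1
        (hNp p (Nat.mem_primeFactors.mpr ⟨hp, hpn, hn0⟩))
    · rw [Nat.factorization_eq_zero_of_not_dvd hpn]
      exact Nat.zero_le _
  exact Nat.dvd_antisymm h1 h3

end Cfsg.Agent.Lib.Helper72.FOT
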